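import Mathlib

/-!
`toSheaf` and restriction of scalars of sheaves of modules preserve colimits.
-/

set_option autoImplicit false
set_option backward.isDefEq.respectTransparency false

universe u v w w' v' u'

open CategoryTheory Limits

namespace QCAlg

variable {C : Type u'} [Category.{v'} C] {J : GrothendieckTopology C}
  [HasSheafify J AddCommGrpCat.{u}] [J.WEqualsLocallyBijective AddCommGrpCat.{u}]

instance toSheaf_preservesColimitsOfShape (R : Sheaf J RingCat.{u}) (K : Type u) [SmallCategory K] :
    PreservesColimitsOfShape K (SheafOfModules.toSheaf.{u} R) where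
  preservesColimit {F} := by
    let adj := PresheafOfModules.sheafificationAdjunction (R := R) (𝟙 R.obj)
    haveI : IsIso adj.counit := inferInstance
    let G := F ⋙ SheafOfModules.forget R ⋙ PresheafOfModules.restrictScalars (𝟙 R.obj)
    let e : G ⋙ PresheafOfModules.sheafification (R := R) (𝟙 R.obj) ≅ F :=
      Functor.isoWhiskerLeft F (asIso adj.counit)
    haveI : PreservesColimitsOfShape K
        (PresheafOfModules.sheafification (R := R) (𝟙 R.obj) ⋙ SheafOfModules.toSheaf R) :=
      preservesColimitsOfShape_of_natIso
        (PresheafOfModules.sheafificationCompToSheaf (R := R) (𝟙 R.obj)).symm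
    haveI := adj.leftAdjoint_preservesColimits
    haveI : PreservesColimit (G ⋙ PresheafOfModules.sheafification (R := R) (𝟙 R.obj))
        (SheafOfModules.toSheaf.{u} R) := by
      refine preservesColimit_of_preserves_colimit_cocone
        (isColimitOfPreserves (PresheafOfModules.sheafification (R := R) (𝟙 R.obj))
          (colimit.isColimit G)) ?_
      exact isColimitOfPreserves
        (PresheafOfModules.sheafification (R := R) (𝟙 R.obj) ⋙ SheafOfModules.toSheaf R)
        (colimit.isColimit G)
    exact preservesColimit_of_iso_diagram _ e

instance toSheaf_preservesColimitsOfSize (R : Sheaf J RingCat.{u}) :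
    PreservesColimitsOfSize.{u, u} (SheafOfModules.toSheaf.{u} R) where

instance restrictScalars_preservesColimitsOfSize {R R' : Sheaf J RingCat.{u}} (α : R ⟶ R') :
    PreservesColimitsOfSize.{u, u} (SheafOfModules.restrictScalars.{u} α) where
  preservesColimitsOfShape {K} _ := by
    haveI : PreservesColimitsOfShape K
        (SheafOfModules.restrictScalars.{u} α ⋙ SheafOfModules.toSheaf.{u} R) :=
      inferInstanceAs (PreservesColimitsOfShape K (SheafOfModules.toSheaf.{u} R'))
    haveI : ReflectsColimitsOfShape K (SheafOfModules.toSheaf.{u} R) :=
      reflectsColimitsOfShape_of_reflectsIsomorphisms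
    exact preservesColimitsOfShape_of_reflects_of_preserves
      (SheafOfModules.restrictScalars.{u} α) (SheafOfModules.toSheaf.{u} R)

end QCAlg
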