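import Mathlib

/-!
Sheaves of modules over the slice `Over U` of the opens of a topological space: sections, generators,
a criterion for epimorphisms.
-/

set_option autoImplicit false
set_option backward.isDefEq.respectTransparency false

universe u

open CategoryTheory Limits TopologicalSpace Opposite

noncomputable section

namespace QCAlg

variable {T : TopCat.{u}} {R : Sheaf (Opens.grothendieckTopology T) RingCat.{u}} {U : Opens T}

/-- An object of the slice. -/
abbrev ov {V : Opens T} (h : V ≤ U) : Over U := Over.mk (homOfLE h)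

variable (N : SheafOfModules.{u} (R.over U))

/-- Sections of a slice module. -/
abbrev sec {V : Opens T} (h : V ≤ U) : Type u := N.val.obj (op (ov h))

/-- Scalars. -/
abbrev scal {V : Opens T} (h : V ≤ U) : Type u := (R.over U).obj.obj (op (ov h))

/-- Restriction. -/
def rs {V W : Opens T} (hWV : W ≤ V) (h : V ≤ U) : sec N h →+ sec N (hWV.trans h) where
  toFun s := N.val.map (Over.homMk (homOfLE hWV) (Subsingleton.elim _ _) :
    ov (hWV.trans h) ⟶ ov h).op s
  map_zero' := map_zero _
  map_add' := map_add _

/-- The global section of a slice module determined by its value at `U`. -/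
def sectionsOf (m : sec N (le_refl U)) : N.sections :=
  PresheafOfModules.sectionsMk
    (fun W => N.val.map (Over.homMk W.unop.hom (Subsingleton.elim _ _) :
      W.unop ⟶ ov (le_refl U)).op m)
    (fun X Y f => by
      rw [← PresheafOfModules.map_comp_apply]
      congr 2)

lemma sectionsOf_val (m : sec N (le_refl U)) {V : Opens T} (h : V ≤ U) :
    (sectionsOf N m).val (op (ov h)) = rs N h (le_refl U) m := by
  change N.val.map _ m = N.val.map _ m
  congr 2

variable {N}

/-- Maps on sections. -/
def mapSec {N' : SheafOfModules.{u} (R.over U)} (p : N ⟶ N') {V : Opens T} (h : V ≤ U) :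
    sec N h →ₗ[scal (R := R) h] sec N' h :=
  (p.val.app (op (ov h))).hom

lemma mapSec_rs {N' : SheafOfModules.{u} (R.over U)} (p : N ⟶ N') {V W : Opens T} (hWV : W ≤ V)
    (h : V ≤ U) (s : sec N h) :
    mapSec p (hWV.trans h) (rs N hWV h s) = rs N' hWV h (mapSec p h s) :=
  PresheafOfModules.naturality_apply p.val _ s

/-- A morphism is epi if it is locally surjective. -/
lemma epi_of_locally {N' : SheafOfModules.{u} (R.over U)} (p : N ⟶ N')
    (hp : ∀ (V : Opens T) (h : V ≤ U) (t : sec N' h) (x : T), x ∈ V →
      ∃ (W : Opens T) (hWV : W ≤ V) (s : sec N (hWV.trans h)),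
        x ∈ W ∧ mapSec p (hWV.trans h) s = rs N' hWV h t) : Epi p := by
  haveI : Sheaf.IsLocallySurjective ((SheafOfModules.toSheaf (R.over U)).map p) := by
    refine ⟨fun {Y} t => ?_⟩
    rw [GrothendieckTopology.mem_over_iff]
    intro x hx
    obtain ⟨W, hWV, s, hxW, hs⟩ := hp Y.left (leOfHom Y.hom) t x hx
    refine ⟨W, homOfLE hWV, ?_, hxW⟩
    rw [Sieve.overEquiv_iff]
    exact ⟨s, hs⟩
  exact (SheafOfModules.toSheaf (R.over U)).epi_of_epi_map inferInstance

section Free

variable (I : Type u)

/-- The basis sections of a free module. -/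
def freeBasis (i : I) {V : Opens T} (h : V ≤ U) : sec (SheafOfModules.free (R := R.over U) I) h :=
  (SheafOfModules.freeSection (R := R.over U) i).val (op (ov h))

variable {I}

lemma mapSec_freeBasis (s : I → sec N (le_refl U)) (i : I) {V : Opens T} (h : V ≤ U) :
    mapSec (N.freeHomEquiv.symm fun i => sectionsOf N (s i)) h (freeBasis I i h) =
      rs N h (le_refl U) (s i) := by
  rw [← sectionsOf_val]
  exact congrArg (fun σ : N.sections => σ.val (op (ov h)))
    (SheafOfModules.sectionsMap_freeHomEquiv_symm_freeSection (fun i => sectionsOf N (s i)) i)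

lemma ιFree_app (i : I) {V : Opens T} (h : V ≤ U) (b : sec (SheafOfModules.unit (R.over U)) h) :
    mapSec (SheafOfModules.ιFree (R := R.over U) i) h b =
      (b : scal (R := R) h) • freeBasis I i h := by
  let one' : sec (SheafOfModules.unit (R.over U)) h := (1 : scal (R := R) h)
  have h1 : mapSec (SheafOfModules.ιFree (R := R.over U) i) h one' = freeBasis I i h := by
    change _ = (((SheafOfModules.free (R := R.over U) I).unitHomEquiv
      (SheafOfModules.ιFree (R := R.over U) i ≫ 𝟙 _)).val (op (ov h)))
    rw [Category.comp_id]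
    rfl
  have hb : b = (b : scal (R := R) h) • one' := (mul_one (M := scal (R := R) h) b).symm
  rw [← h1]
  exact (congrArg _ hb).trans (LinearMap.map_smul _ _ _)

/-- Sections of a finite free module are spanned by the basis. -/
lemma span_freeBasis [Finite I] {V : Opens T} (h : V ≤ U) :
    Submodule.span (scal (R := R) h) (Set.range fun i : I => freeBasis (R := R) I i h) = ⊤ := by
  classical
  have := Fintype.ofFinite I
  let δ : I → (SheafOfModules.free (R := R.over U) I ⟶ SheafOfModules.unit (R.over U)) := fun i =>
    Sigma.desc fun j => if j = i then 𝟙 _ else 0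
  have hid : (∑ i, δ i ≫ SheafOfModules.ιFree (R := R.over U) i) =
      𝟙 (SheafOfModules.free (R := R.over U) I) := by
    refine Sigma.hom_ext _ _ fun j => ?_
    rw [Preadditive.comp_sum, Finset.sum_eq_single j]
    · simp [δ, SheafOfModules.ιFree]
      rfl
    · intro i _ hij
      simp [δ, Ne.symm hij]
    · exact fun hj => absurd (Finset.mem_univ j) hj
  refine eq_top_iff.mpr fun t _ => ?_
  let ev : (SheafOfModules.free (R := R.over U) I ⟶ SheafOfModules.free (R := R.over U) I) →+
      sec (SheafOfModules.free (R := R.over U) I) h :=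
    { toFun := fun p => mapSec p h t
      map_zero' := rfl
      map_add' := fun _ _ => rfl }
  have ht : ev (∑ i, δ i ≫ SheafOfModules.ιFree (R := R.over U) i) = t := by rw [hid]; rfl
  rw [← ht, map_sum]
  refine Submodule.sum_mem _ fun i _ => ?_
  change mapSec (SheafOfModules.ιFree (R := R.over U) i) h (mapSec (δ i) h t) ∈ _
  rw [ιFree_app]
  exact Submodule.smul_mem _ _ (Submodule.subset_span ⟨i, rfl⟩)

end Free

end QCAlg
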